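import Mathlib
import Cfsg.Agent.Lib.Helper18.T23.H2.SOTDefs
import Cfsg.Agent.Lib.Helper18.T23.H13.SOTGDefs

/-!
S5666 part (G) leaves (G3a) `span_PS` (the pure singular tensors span `V`) and the core of (G3b) `diam_PS`
(diameter `≤ 2`, against the statement of (B3) `exists_singular_nonperp` as a hypothesis).
By-products: `fB_nondeg'`, `exists_hyp_partner`, `exists_three_singular`, `exists_sf_ne_zero_pair`.
-/

set_option autoImplicit false
set_option linter.unusedSectionVars false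
set_option linter.unusedVariables false

namespace Cfsg.Agent.Lib.Helper18.T23.H9.SOTGLeaf
open Matrix
open Cfsg.Agent.Lib.Helper25.Tens Cfsg.Agent.Lib.Helper25.SpT Cfsg.Agent.Lib.Helper19.OSub
open Cfsg.Agent.Lib.Helper18.T23.H2.SOT Cfsg.Agent.Lib.Helper18.T23.H13.SOTG
open scoped Kronecker

variable {F : Type*} [Field F] [Fintype F] {a b : ℕ} {G : Matrix (Fin b) (Fin b) F}
  {M : Subgroup (GL (Idx a b) F)}

/-- nondegeneracy of `fB G` -/
theorem fB_nondeg' (hG : G.det ≠ 0) {y : Fin b → F} (hy : y ≠ 0) : ∃ y' : Fin b → F, fB G y y' ≠ 0 := by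
  by_contra hcon
  push_neg at hcon
  apply hy
  apply Matrix.eq_zero_of_vecMul_eq_zero hG
  rw [← dotProduct_eq_zero_iff]
  intro w
  rw [← Matrix.dotProduct_mulVec]
  exact hcon w

/-- a singular `z ≠ 0` has a singular partner `z'` with `f(z,z') = 1` -/
theorem exists_hyp_partner (hG : G.det ≠ 0) (hs : Gᵀ = G) (h2 : (2 : F) ≠ 0) {z : Fin b → F}
    (hz : z ≠ 0) (hzz : fB G z z = 0) :
    ∃ z' : Fin b → F, fB G z' z' = 0 ∧ fB G z z' = 1 := by
  obtain ⟨y₀, hy₀⟩ := fB_nondeg' hG hz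
  obtain ⟨y₁, hy₁⟩ : ∃ y₁ : Fin b → F, y₁ = (fB G z y₀)⁻¹ • y₀ := ⟨_, rfl⟩
  have h1 : fB G z y₁ = 1 := by
    rw [hy₁, fB_smul_right, inv_mul_cancel₀ hy₀]
  have h1' : fB G y₁ z = 1 := by rw [fB_comm G hs, h1]
  refine ⟨y₁ + (-(fB G y₁ y₁ / 2)) • z, ?_, ?_⟩
  · simp only [fB_add_left, fB_add_right, fB_smul_left, fB_smul_right, h1, h1', hzz]
    field_simp
    ring
  · rw [fB_add_right, fB_smul_right, h1, hzz, mul_zero, add_zero]

/-- every `y` is a combination of three singular vectors (`z`, `z'` a hyperbolic pair) -/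
theorem exists_three_singular (hs : Gᵀ = G) (h2 : (2 : F) ≠ 0) {z z' : Fin b → F}
    (hzz : fB G z z = 0) (hz'z' : fB G z' z' = 0) (h1 : fB G z z' = 1) (y : Fin b → F) :
    ∃ (s : Fin b → F) (c₁ c₂ : F), fB G s s = 0 ∧ y = s + c₁ • z + c₂ • z' := by
  have h1' : fB G z' z = 1 := by rw [fB_comm G hs, h1]
  obtain ⟨α, hα⟩ : ∃ α : F, α = fB G y z' := ⟨_, rfl⟩
  obtain ⟨β, hβ⟩ : ∃ β : F, β = fB G y z := ⟨_, rfl⟩
  obtain ⟨y', hy'⟩ : ∃ y' : Fin b → F, y' = y + (-α) • z + (-β) • z' := ⟨_, rfl⟩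
  have e1 : fB G y' z = 0 := by
    rw [hy']
    simp only [fB_add_left, fB_smul_left, hzz, h1', ← hβ]
    ring
  have e2 : fB G y' z' = 0 := by
    rw [hy']
    simp only [fB_add_left, fB_smul_left, hz'z', h1, ← hα]
    ring
  have e1' : fB G z y' = 0 := by rw [fB_comm G hs, e1]
  have e2' : fB G z' y' = 0 := by rw [fB_comm G hs, e2]
  obtain ⟨r, hr⟩ : ∃ r : F, r = fB G y' y' := ⟨_, rfl⟩
  refine ⟨y' + z + (-(r / 2)) • z', α - 1, β + r / 2, ?_, ?_⟩
  · simp only [fB_add_left, fB_add_right, fB_smul_left, fB_smul_right, e1, e2, e1', e2', hzz, hz'z',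
      h1, h1', ← hr]
    field_simp
    ring
  · rw [hy']
    module

/-- a pure tensor with singular second factor lies in the span of `PS` -/
theorem pt_mem_span_PS (x : Fin a → F) {s : Fin b → F} (hss : fB G s s = 0) :
    pt x s ∈ Submodule.span F (PS a G) := by
  by_cases hx : x = 0
  · rw [hx, pt_zero_left]; exact Submodule.zero_mem _
  by_cases hs : s = 0
  · rw [hs, pt_zero_right]; exact Submodule.zero_mem _
  exact Submodule.subset_span ⟨x, s, hx, hs, hss, rfl⟩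

/-- (G3a) the pure singular tensors span `V`. -/
theorem span_PS (h : Ctx a b G) (hex : ∃ z : Fin b → F, z ≠ 0 ∧ fB G z z = 0) :
    Submodule.span F (PS a G) = ⊤ := by
  obtain ⟨z, hz, hzz⟩ := hex
  obtain ⟨z', hz'z', h1⟩ := exists_hyp_partner h.nd h.symm h.two hz hzz
  rw [eq_top_iff]
  intro v _
  have hpt : ∀ (x : Fin a → F) (y : Fin b → F), pt x y ∈ Submodule.span F (PS a G) := by
    intro x y
    obtain ⟨s, c₁, c₂, hss, rfl⟩ := exists_three_singular h.symm h.two hzz hz'z' h1 y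
    rw [pt_add_right, pt_add_right, pt_smul_right, pt_smul_right]
    exact Submodule.add_mem _ (Submodule.add_mem _ (pt_mem_span_PS x hss)
      (Submodule.smul_mem _ _ (pt_mem_span_PS x hzz))) (Submodule.smul_mem _ _ (pt_mem_span_PS x hz'z'))
  rw [eq_sum_pt v]
  apply Submodule.sum_mem; intro i _
  apply Submodule.sum_mem; intro l _
  rw [← pt_smul_left]
  exact hpt _ _

/-- a common non-neighbour for two non-zero vectors of `A` -/
theorem exists_sf_ne_zero_pair (ea : Even a) {x x' : Fin a → F} (hx : x ≠ 0) (hx' : x' ≠ 0) :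
    ∃ x₁ : Fin a → F, sf x x₁ ≠ 0 ∧ sf x' x₁ ≠ 0 := by
  obtain ⟨u, hu⟩ := exists_sf_ne_zero ea hx
  obtain ⟨u', hu'⟩ := exists_sf_ne_zero ea hx'
  by_cases h1 : sf x' u = 0
  · by_cases h2 : sf x u' = 0
    · refine ⟨u + u', ?_, ?_⟩
      · rw [sf_add_right, h2, add_zero]; exact hu
      · rw [sf_add_right, h1, zero_add]; exact hu'
    · exact ⟨u', h2, hu'⟩
  · exact ⟨u, hu, h1⟩

/-- (G3b), core: diameter `≤ 2`, against the statement of (B3) -/
theorem diam_PS_core (h : Ctx a b G)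
    (hB3 : ∀ {z z' : Fin b → F}, z ≠ 0 → z' ≠ 0 → fB G z z = 0 → fB G z' z' = 0 →
      ∃ z₁ : Fin b → F, fB G z₁ z₁ = 0 ∧ fB G z z₁ ≠ 0 ∧ fB G z' z₁ ≠ 0) :
    Diam2 (JG a G) (PS a G) := by
  rintro e ⟨x, z, hx, hz, hzz, rfl⟩ e' ⟨x', z', hx', hz', hz'z', rfl⟩
  obtain ⟨x₁, hx₁, hx₁'⟩ := exists_sf_ne_zero_pair h.ea hx hx'
  obtain ⟨z₁, hz₁z₁, hzz₁, hz'z₁⟩ := hB3 hz hz' hzz hz'z'
  have hx₁0 : x₁ ≠ 0 := by
    rintro rfl
    exact hx₁ (sf_zero_right x)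
  have hz₁0 : z₁ ≠ 0 := by
    rintro rfl
    apply hzz₁
    simp [fB]
  refine ⟨pt x₁ z₁, ⟨x₁, z₁, hx₁0, hz₁0, hz₁z₁, rfl⟩, ?_, ?_⟩
  · rw [fJ_pt]; exact mul_ne_zero hx₁ hzz₁
  · rw [fJ_pt]; exact mul_ne_zero hx₁' hz'z₁

end Cfsg.Agent.Lib.Helper18.T23.H9.SOTGLeaf
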